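import Cfsg.Agent.Lib.LocalEven.FoursStruct

/-!
# Classification of 2-groups with commuting automorphisms of orders 2 and 3
-/

set_option autoImplicit false

namespace Cfsg.Agent.FoursCenter

open scoped commutatorElement

section Central

variable {T : Type*} [Group T] (hc : ∀ a b c : T, Commute ⁅a, b⁆ c)

include hc

theorem comm_mul_right (a b c : T) : ⁅a, b * c⁆ = ⁅a, b⁆ * ⁅a, c⁆ := by
  have h := (hc a c b).eq
  rw [show ⁅a, b * c⁆ = ⁅a, b⁆ * (b * ⁅a, c⁆ * b⁻¹) by simp only [commutatorElement_def]; group,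
    ← h, mul_inv_cancel_right]

theorem comm_mul_left (a b c : T) : ⁅a * b, c⁆ = ⁅a, c⁆ * ⁅b, c⁆ := by
  have h := (hc b c a).eq
  rw [show ⁅a * b, c⁆ = (a * ⁅b, c⁆ * a⁻¹) * ⁅a, c⁆ by simp only [commutatorElement_def]; group,
    ← h, mul_inv_cancel_right, (hc b c _).eq]

theorem comm_inv_right (a b : T) : ⁅a, b⁻¹⁆ = ⁅a, b⁆⁻¹ := by
  refine eq_inv_of_mul_eq_one_right ?_
  rw [← comm_mul_right hc, mul_inv_cancel, commutatorElement_one_right]

theorem comm_inv_left (a b : T) : ⁅a⁻¹, b⁆ = ⁅a, b⁆⁻¹ := by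
  refine eq_inv_of_mul_eq_one_right ?_
  rw [← comm_mul_left hc, mul_inv_cancel, commutatorElement_one_left]

end Central

/-- The classification. -/
theorem classification {T : Type*} [Group T] [Finite T] (hT : IsPGroup 2 T) (V : Subgroup T)
    (hVc : V ≤ Subgroup.center T) (hV4 : Nat.card V = 4) (hV2 : ∀ v ∈ V, v ^ 2 = 1)
    (τ r : T →* T) (hτ : ∀ x, τ (τ x) = x) (hr : FpfThree r) (hτr : ∀ x, τ (r x) = r (τ x))
    (hV : ∀ x, τ x = x ↔ x ∈ V) :
    (Nat.card T = 16 ∧ ∀ x : T, x ^ 2 = 1) ∨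
      (∃ n : ℕ, 1 ≤ n ∧ Nonempty (T ≃* Multiplicative (ZMod (2 ^ n)) × Multiplicative (ZMod (2 ^ n)))) ∨
      ∃ (e : Bool) (x x' y y' : T), Rel e x x' y y' ∧ Subgroup.closure {x, x', y, y'} = ⊤ ∧
        Nat.card T = 64 := by
  classical
  haveI : Fact (Nat.Prime 2) := ⟨Nat.prime_two⟩
  haveI hnt : Nontrivial T := by
    rw [← Finite.one_lt_card_iff_nontrivial]
    have := Subgroup.card_le_card_group V
    omega
  have hfixT : Nat.card {g : T // τ g = g} = 4 := by
    rw [← hV4]; exact Nat.card_congr (Equiv.subtypeEquivRight fun g => hV g)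
  have hfix1 : Nat.card {g : T // r g = g} ≤ 1 := by
    rw [Finite.card_le_one_iff_subsingleton]
    exact ⟨fun a b => Subtype.ext ((hr.fpf _ a.2).trans (hr.fpf _ b.2).symm)⟩
  have hcen : ∀ a b c : T, Commute ⁅a, b⁆ c := hr.commutator_central hT
  let π : T →* Abelianization T := Abelianization.of
  have hπs : Function.Surjective π := QuotientGroup.mk_surjective
  let τb : Abelianization T →* Abelianization T := Abelianization.map τ
  let rb : Abelianization T →* Abelianization T := Abelianization.map r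
  have hτb : ∀ g, π (τ g) = τb (π g) := fun g => (Abelianization.map_of τ g).symm
  have hrb : ∀ g, π (r g) = rb (π g) := fun g => (Abelianization.map_of r g).symm
  have hrbf : FpfThree rb := by
    constructor
    · intro q; obtain ⟨g, rfl⟩ := hπs q; rw [← hrb, ← hrb, ← hrb, hr.cube]
    · intro q hq
      have h1 := (card_fixed_le π hπs r rb hrb).trans hfix1
      rw [Finite.card_le_one_iff_subsingleton] at h1
      exact congrArg Subtype.val (h1.elim ⟨q, hq⟩ ⟨1, map_one rb⟩)
  have hτbτ : ∀ q, τb (τb q) = q := by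
    intro q; obtain ⟨g, rfl⟩ := hπs q; rw [← hτb, ← hτb, hτ]
  have hτrb : ∀ q, τb (rb q) = rb (τb q) := by
    intro q; obtain ⟨g, rfl⟩ := hπs q; rw [← hrb, ← hτb, ← hτb, ← hrb, hτr]
  have hfixb : Nat.card {q // τb q = q} ≤ 4 := (card_fixed_le π hπs τ τb hτb).trans hfixT.le
  have hkerπ : ∀ g, π g = 1 → g ∈ commutator T := fun g hg => (QuotientGroup.eq_one_iff g).1 hg
  have hCcen : commutator T ≤ Subgroup.center T := by
    rw [commutator_def, Subgroup.commutator_le]
    exact fun a _ b _ => Subgroup.mem_center_iff.2 fun c => ((hcen a b c).eq).symm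
  have hAb : IsPGroup 2 (Abelianization T) := hT.of_surjective π hπs
  by_cases hcomm : ∀ a b : T, a * b = b * a
  · letI : CommGroup T := { (inferInstance : Group T) with mul_comm := hcomm }
    rcases abelian_case hT τ r hτ hr hτr hfixT.le with h | ⟨x, hx⟩
    · exact Or.inl h
    · exact Or.inr (Or.inl (homocyclic hT hnt hcomm r hr x hx))
  right; right
  rcases abelian_case hAb τb rb hτbτ hrbf hτrb hfixb with ⟨h16, hsqb⟩ | ⟨xq, hxq⟩
  swap
  · exfalso
    obtain ⟨x, rfl⟩ := hπs xq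
    let L := Subgroup.closure ({x, r x} : Set T)
    have hL : L.map π = ⊤ := hxq _ ⟨x, Subgroup.subset_closure (by simp), rfl⟩
      ⟨r x, Subgroup.subset_closure (by simp), hrb x⟩
    have hdec : ∀ g, ∃ l ∈ L, ∃ c ∈ Subgroup.center T, g = l * c := by
      intro g
      obtain ⟨l, hl, hlg⟩ : π g ∈ L.map π := hL ▸ Subgroup.mem_top _
      exact ⟨l, hl, l⁻¹ * g, hCcen (hkerπ _ (by rw [map_mul, map_inv, hlg, inv_mul_cancel])), by group⟩
    have hLc : ∀ a ∈ L, ∀ b ∈ L, a * b = b * a := by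
      intro a ha b hb
      refine Subgroup.closure_induction₂ (p := fun u v _ _ => Commute u v) ?_ (fun _ _ => Commute.one_left _)
        (fun _ _ => Commute.one_right _) (fun _ _ _ _ _ _ h h' => h.mul_left h')
        (fun _ _ _ _ _ _ h h' => h.mul_right h') (fun _ _ _ _ h => h.inv_left)
        (fun _ _ _ _ h => h.inv_right) ha hb
      rintro u v (rfl | rfl) (rfl | rfl)
      exacts [Commute.refl _, hr.commute_r _, (hr.commute_r _).symm, Commute.refl _]
    apply hcomm
    intro a b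
    obtain ⟨l, hl, c, hc, rfl⟩ := hdec a
    obtain ⟨m, hm, d, hd, rfl⟩ := hdec b
    have hcc := Subgroup.mem_center_iff.1 hc
    have hdd := Subgroup.mem_center_iff.1 hd
    exact ((Commute.mul_right (hLc l hl m hm) (hdd l)).mul_left
      (Commute.symm (hcc (m * d)))).eq
  -- the main case
  have hsqC : ∀ g, g ^ 2 ∈ commutator T := fun g => hkerπ _ (by rw [map_pow]; exact hsqb _)
  have hsqcen : ∀ g, g ^ 2 ∈ Subgroup.center T := fun g => hCcen (hsqC g)
  obtain ⟨y, hy⟩ : ∃ y, π (y⁻¹ * τ y) ≠ 1 := by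
    by_contra hne
    push Not at hne
    have hall : ∀ q, τb q = q := fun q => by
      obtain ⟨g, rfl⟩ := hπs q
      have h := hne g
      rw [map_mul, map_inv, hτb] at h
      exact (eq_of_inv_mul_eq_one h).symm
    rw [Nat.card_congr (Equiv.subtypeUnivEquiv hall), h16] at hfixb
    omega
  obtain ⟨x, hxdef⟩ : ∃ x, x = y⁻¹ * τ y := ⟨_, rfl⟩
  rw [← hxdef] at hy
  have hτy : τ y = y * x := by rw [hxdef, mul_inv_cancel_left]
  have hτx : τ x = x⁻¹ := by rw [hxdef, map_mul, map_inv, hτ]; group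
  obtain ⟨x', hx'⟩ : ∃ x', x' = r x := ⟨_, rfl⟩
  obtain ⟨y', hy'⟩ : ∃ y', y' = r y := ⟨_, rfl⟩
  have hτx' : τ x' = x'⁻¹ := by rw [hx', hτr, hτx, map_inv]
  have hτy' : τ y' = y' * x' := by rw [hy', hx', hτr, hτy, map_mul]
  have hxx : Commute x x' := hx' ▸ hr.commute_r x
  have hyy : Commute y y' := hy' ▸ hr.commute_r y
  -- generation
  let L := Subgroup.closure ({x, x', y, y'} : Set T)
  have hxL : x ∈ L := Subgroup.subset_closure (by simp)
  have hx'L : x' ∈ L := Subgroup.subset_closure (by simp)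
  have hyL : y ∈ L := Subgroup.subset_closure (by simp)
  have hy'L : y' ∈ L := Subgroup.subset_closure (by simp)
  have hLtop : L.map π = ⊤ := by
    let Φ : Abelianization T →* Abelianization T :=
      MonoidHom.mk' (fun q => q⁻¹ * τb q) fun a b => by
        rw [mul_inv, map_mul]; exact mul_mul_mul_comm _ _ _ _
    have hΦπ : ∀ g, Φ (π g) = π (g⁻¹ * τ g) := fun g => by
      show (π g)⁻¹ * τb (π g) = _; rw [map_mul, map_inv, hτb]
    have hΦx : Φ (π x) = 1 := by
      rw [hΦπ, hτx, map_mul, ← pow_two]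
      exact hsqb _
    let K₀ := L.map π ⊓ Φ.ker
    let K₁ := L.map π ⊓ (Subgroup.zpowers (π x)).comap Φ
    have hπx1 : π x ≠ 1 := hy
    have hπx'1 : π x' ≠ 1 := fun h => hπx1 (by
      rw [hx', hrb] at h; have := congrArg rb (congrArg rb h); rwa [hrbf.cube, map_one, map_one] at this)
    have hne : π x ≠ π x' := fun h => hπx1 (hrbf.fpf _ (by rw [← hrb, ← hx', ← h]))
    have hΦx' : Φ (π x') = 1 := by
      rw [hΦπ, hτx', map_mul, ← pow_two]
      exact hsqb _
    have h0 : 3 ≤ Nat.card K₀ := card_subgroup_four K₀ (π x) (π x') ⟨⟨x, hxL, rfl⟩, hΦx⟩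
      ⟨⟨x', hx'L, rfl⟩, hΦx'⟩ hπx1 hπx'1 hne
    have h01 : K₀ < K₁ := by
      refine lt_of_le_of_ne (fun q hq => ⟨hq.1, by
        refine Subgroup.mem_comap.2 ?_; rw [MonoidHom.mem_ker.1 hq.2]; exact Subgroup.one_mem _⟩) fun he => ?_
      have hy1 : π y ∈ K₁ := ⟨⟨y, hyL, rfl⟩, by
        refine Subgroup.mem_comap.2 ?_; rw [hΦπ, ← hxdef]; exact Subgroup.mem_zpowers _⟩
      rw [← he] at hy1
      exact hy (by rw [hxdef, ← hΦπ]; exact hy1.2)
    have h12 : K₁ < L.map π := by
      refine lt_of_le_of_ne inf_le_left fun he => ?_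
      have h1 : π y' ∈ K₁ := he.symm ▸ ⟨y', hy'L, rfl⟩
      have h2 : π x' ∈ Subgroup.zpowers (π x) := by
        have h3 : Φ (π y') ∈ Subgroup.zpowers (π x) := h1.2
        rwa [hΦπ, hτy', inv_mul_cancel_left] at h3
      obtain ⟨k, hk⟩ := Subgroup.mem_zpowers_iff.1 h2
      rw [← zpow_mod_orderOf, orderOf_eq_prime (p := 2) (hsqb _) hπx1] at hk
      rcases Int.emod_two_eq k with h | h <;> norm_num [h] at hk
      · exact hπx'1 hk.symm
      · exact hne hk
    obtain ⟨a, ha⟩ := IsPGroup.iff_card.1 (hAb.to_subgroup K₀)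
    obtain ⟨b, hb⟩ := IsPGroup.iff_card.1 (hAb.to_subgroup K₁)
    obtain ⟨c, hc⟩ := IsPGroup.iff_card.1 (hAb.to_subgroup (L.map π))
    have hlt : ∀ {P Q : Subgroup (Abelianization T)}, P < Q → Nat.card P < Nat.card Q := fun {P Q} h =>
      Set.ncard_lt_ncard (SetLike.coe_ssubset_coe.2 h)
    have hab := hlt h01
    have hbc := hlt h12
    rw [ha, hb, Nat.pow_lt_pow_iff_right (by norm_num)] at hab
    rw [hb, hc, Nat.pow_lt_pow_iff_right (by norm_num)] at hbc
    have h2a : 2 ≤ a := by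
      by_contra h
      have := Nat.pow_le_pow_right (show 1 ≤ 2 by norm_num) (show a ≤ 1 by omega)
      omega
    refine Subgroup.eq_top_of_le_card _ ?_
    rw [h16, hc]
    calc (16 : ℕ) = 2 ^ 4 := by norm_num
      _ ≤ _ := Nat.pow_le_pow_right (by norm_num) (by omega)
  have hdec : ∀ g, ∃ l ∈ L, ∃ c ∈ commutator T, g = l * c := by
    intro g
    obtain ⟨l, hl, hlg⟩ : π g ∈ L.map π := hLtop ▸ Subgroup.mem_top _
    exact ⟨l, hl, l⁻¹ * g, hkerπ _ (by rw [map_mul, map_inv, hlg, inv_mul_cancel]), by group⟩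
  -- the commutators are fixed by `τ`
  have hcc : ∀ a c : T, c ∈ commutator T → ⁅a, c⁆ = 1 := fun a c hc =>
    commutatorElement_eq_one_iff_commute.2 (Subgroup.mem_center_iff.1 (hCcen hc) a)
  have hswap : ∀ a b : T, ⁅b, a⁆ = ⁅a, b⁆⁻¹ := fun a b => (commutatorElement_inv a b).symm
  have hfixgen : ∀ a ∈ ({x, x', y, y'} : Set T), ∀ b ∈ ({x, x', y, y'} : Set T),
      τ ⁅a, b⁆ = ⁅a, b⁆ := by
    have h1 : ∀ a b : T, (a = x ∨ a = x') → (b = y ∨ b = y') → τ ⁅a, b⁆ = ⁅a, b⁆ := by
      intro a b ha hb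
      have hinv : ∀ {z : T}, τ z = z⁻¹ → ∀ g : T, ⁅τ z, g⁆ = ⁅z, g⁆ := by
        intro z hz g
        rw [hz, show z⁻¹ = z * (z⁻¹ ^ 2) by group, comm_mul_left hcen]
        rw [show ⁅z⁻¹ ^ 2, g⁆ = 1 from commutatorElement_eq_one_iff_commute.2
          (Commute.symm (Subgroup.mem_center_iff.1 (hsqcen z⁻¹) g)), mul_one]
      have hτa : ∀ g : T, ⁅τ a, g⁆ = ⁅a, g⁆ := by
        rcases ha with rfl | rfl
        exacts [hinv hτx, hinv hτx']
      have hkill : ∀ k : T, (k = x ∨ k = x') → ⁅a, k⁆ = 1 := by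
        intro k hk
        rw [commutatorElement_eq_one_iff_commute]
        rcases ha with rfl | rfl <;> rcases hk with rfl | rfl
        exacts [Commute.refl _, hxx, hxx.symm, Commute.refl _]
      rw [map_commutatorElement, hτa]
      rcases hb with rfl | rfl
      · rw [hτy, comm_mul_right hcen, hkill x (Or.inl rfl), mul_one]
      · rw [hτy', comm_mul_right hcen, hkill x' (Or.inr rfl), mul_one]
    have h2 : ∀ a b : T, Commute a b → τ ⁅a, b⁆ = ⁅a, b⁆ := fun a b h => by
      rw [commutatorElement_eq_one_iff_commute.2 h, map_one]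
    rintro a (rfl | rfl | rfl | rfl) b (rfl | rfl | rfl | rfl)
    all_goals first
      | exact h2 _ _ (Commute.refl _)
      | exact h2 _ _ hxx
      | exact h2 _ _ hxx.symm
      | exact h2 _ _ hyy
      | exact h2 _ _ hyy.symm
      | exact h1 _ _ (by simp) (by simp)
      | (rw [hswap, map_inv, h1 _ _ (by simp) (by simp)])
  have hbrV : ∀ a b : T, ⁅a, b⁆ ∈ V := by
    have hL2 : ∀ a ∈ L, ∀ b ∈ L, ⁅a, b⁆ ∈ V := by
      intro a ha b hb
      refine Subgroup.closure_induction₂ (p := fun u v _ _ => ⁅u, v⁆ ∈ V) ?_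
        (fun v _ => by rw [commutatorElement_one_left]; exact V.one_mem)
        (fun u _ => by rw [commutatorElement_one_right]; exact V.one_mem)
        (fun u v w _ _ _ h h' => by rw [comm_mul_left hcen]; exact V.mul_mem h h')
        (fun u v w _ _ _ h h' => by rw [comm_mul_right hcen]; exact V.mul_mem h h')
        (fun u v _ _ h => by rw [comm_inv_left hcen]; exact V.inv_mem h)
        (fun u v _ _ h => by rw [comm_inv_right hcen]; exact V.inv_mem h) ha hb
      intro u v hu hv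
      exact (hV _).1 (hfixgen u hu v hv)
    intro a b
    obtain ⟨l, hl, c, hc, rfl⟩ := hdec a
    obtain ⟨m, hm, d, hd, rfl⟩ := hdec b
    rw [comm_mul_left hcen, comm_mul_right hcen, hswap (m * d) c, hcc (m * d) c hc, hcc l d hd,
      mul_one, inv_one, mul_one]
    exact hL2 l hl m hm
  have hCV : commutator T ≤ V := by
    rw [commutator_def, Subgroup.commutator_le]
    exact fun a _ b _ => hbrV a b
  have hVsq : ∀ g, g ^ 2 ∈ V := fun g => hCV (hsqC g)
  obtain ⟨v, hv⟩ : ∃ v, v = x ^ 2 := ⟨_, rfl⟩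
  obtain ⟨v', hv'⟩ : ∃ v', v' = x' ^ 2 := ⟨_, rfl⟩
  have hvr : r v = v' := by rw [hv, hv', hx', map_pow]
  have hCmem : ∀ g, g ∈ commutator T → r g ∈ commutator T := by
    intro g hg
    refine hkerπ _ ?_
    rw [hrb, (QuotientGroup.eq_one_iff g).2 hg |> fun h => (show π g = 1 from h), map_one]
  have hv1 : v ≠ 1 := by
    intro h
    have hxV : x ∈ V := (hV x).1 (by
      rw [hτx, inv_eq_of_mul_eq_one_right]; rw [← pow_two, ← hv, h])
    -- the centre of the fixed points contains no element outside the commutator subgroup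
    have hC3 : 3 ≤ Nat.card (commutator T) := by
      obtain ⟨c, hc, hc1⟩ : ∃ c ∈ commutator T, c ≠ 1 := by
        by_contra hne
        push Not at hne
        exact hcomm fun a b => commutatorElement_eq_one_iff_mul_comm.1
          (hne _ (Subgroup.commutator_mem_commutator (Subgroup.mem_top a) (Subgroup.mem_top b)))
      exact card_subgroup_four _ c (r c) hc (hCmem c hc) hc1
        (fun h => hc1 (by have := congrArg r (congrArg r h); rwa [hr.cube, map_one, map_one] at this))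
        (fun h => hc1 (hr.fpf c h.symm))
    have hC4 : commutator T = V := Subgroup.eq_of_le_of_card_ge hCV (by
      obtain ⟨j, hj⟩ := IsPGroup.iff_card.1 (hT.to_subgroup (commutator T))
      rw [hj] at hC3 ⊢
      rcases j with _ | _ | j
      · omega
      · omega
      · rw [hV4]
        calc (4 : ℕ) = 2 ^ 2 := by norm_num
          _ ≤ _ := Nat.pow_le_pow_right (by norm_num) (by omega))
    exact hy ((QuotientGroup.eq_one_iff x).2 (hC4.symm ▸ hxV))
  have hvV : v ∈ V := hv ▸ hVsq x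
  have hv'V : v' ∈ V := hv' ▸ hVsq x'
  have hvv1 : v ≠ v' := fun h => hv1 (hr.fpf v (by rw [hvr, ← h]))
  have hv'1 : v' ≠ 1 := fun h => hv1 (by
    rw [← hvr] at h; have := congrArg r (congrArg r h); rwa [hr.cube, map_one, map_one] at this)
  have hCeq : commutator T = V := by
    refine le_antisymm hCV fun g hg => ?_
    have h3 : 3 ≤ Nat.card (commutator T) :=
      card_subgroup_four _ v v' (hv ▸ hsqC x) (hv' ▸ hsqC x') hv1 hv'1 hvv1
    have : commutator T = V := Subgroup.eq_of_le_of_card_ge hCV (by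
      obtain ⟨j, hj⟩ := IsPGroup.iff_card.1 (hT.to_subgroup (commutator T))
      rw [hj] at h3 ⊢
      rcases j with _ | _ | j
      · omega
      · omega
      · rw [hV4]
        calc (4 : ℕ) = 2 ^ 2 := by norm_num
          _ ≤ _ := Nat.pow_le_pow_right (by norm_num) (by omega))
    exact this.symm ▸ hg
  have hcard : Nat.card T = 64 := by
    rw [Subgroup.card_eq_card_quotient_mul_card_subgroup (commutator T),
      show Nat.card ↥(commutator T) = 4 by rw [hCeq]; exact hV4]
    show Nat.card (Abelianization T) * 4 = 64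
    rw [h16]
  have hfour : ∀ u ∈ V, u = 1 ∨ u = v ∨ u = v' ∨ u = v * v' := by
    intro u hu
    by_contra hne
    push Not at hne
    haveI := Fintype.ofFinite V
    let z : Fin 5 → V := ![1, ⟨v, hvV⟩, ⟨v', hv'V⟩, ⟨v * v', V.mul_mem hvV hv'V⟩, ⟨u, hu⟩]
    have hz : Function.Injective z := by
      have e1 : v * v' ≠ 1 := fun h => hvv1 (by
        rw [← mul_one v, ← h, ← mul_assoc, ← pow_two, hV2 v hvV, one_mul])
      have e2 : v * v' ≠ v := by simp [hv'1]
      have e3 : v * v' ≠ v' := by simp [hv1]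
      intro i j h
      have h' := congrArg Subtype.val h
      fin_cases i <;> fin_cases j <;>
        simp [z, hv1, Ne.symm hv1, hv'1, Ne.symm hv'1, hvv1, Ne.symm hvv1, e1, Ne.symm e1,
          e2, Ne.symm e2, e3, Ne.symm e3, hne.1, Ne.symm hne.1, hne.2.1, Ne.symm hne.2.1,
          hne.2.2.1, Ne.symm hne.2.2.1, hne.2.2.2, Ne.symm hne.2.2.2] at h' ⊢
    have := Fintype.card_le_of_injective z hz
    rw [← Nat.card_eq_fintype_card, ← Nat.card_eq_fintype_card, hV4, Nat.card_fin] at this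
    omega
  have hLtop' : L = ⊤ := by
    have hCL : commutator T ≤ L := by
      refine fun g hg => ?_
      rcases hfour g (hCV hg) with rfl | rfl | rfl | rfl
      exacts [L.one_mem, hv ▸ pow_mem hxL 2, hv' ▸ pow_mem hx'L 2,
        L.mul_mem (hv ▸ pow_mem hxL 2) (hv' ▸ pow_mem hx'L 2)]
    refine eq_top_iff.2 fun g _ => ?_
    obtain ⟨l, hl, c, hc, rfl⟩ := hdec g
    exact L.mul_mem hl (hCL hc)
  -- the relations
  have hcV : ∀ {a : T}, a ∈ V → ∀ g, a * g = g * a := fun {a} ha g =>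
    (Subgroup.mem_center_iff.1 (hVc ha) g).symm
  have hx4 : ∀ g : T, g ^ 4 = 1 := fun g => by
    rw [show (4 : ℕ) = 2 * 2 from rfl, pow_mul]; exact hV2 _ (hVsq g)
  have hvsq : v * v = 1 := by rw [← pow_two]; exact hV2 v hvV
  have hyx : y * x = x⁻¹ * y := by
    have h1 : τ (y * y) = y * y := (hV _).2 (by rw [← pow_two]; exact hVsq y)
    rw [map_mul, hτy] at h1
    have h2 : x * (y * x) = y := mul_left_cancel (a := y) (by rw [← h1]; group)
    calc y * x = x⁻¹ * (x * (y * x)) := by group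
      _ = x⁻¹ * y := by rw [h2]
  obtain ⟨w, hw⟩ : ∃ w, w = ⁅y, x'⁆ := ⟨_, rfl⟩
  have hwV : w ∈ V := hw ▸ hbrV _ _
  have hyxv : ⁅y, x⁆ = v := by
    rw [commutatorElement_def, hyx, hv,
      show x⁻¹ * y * y⁻¹ * x⁻¹ = (x ^ 2)⁻¹ by group]
    exact inv_eq_of_mul_eq_one_right (by rw [← pow_two]; exact hV2 _ (hVsq x))
  have hy'x : ⁅y', x⁆ = w := by
    have h1 : ⁅x * y, x' * y'⁆ = 1 := by
      rw [commutatorElement_eq_one_iff_commute, hx', hy', ← map_mul]
      exact hr.commute_r _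
    rw [comm_mul_left hcen, comm_mul_right hcen, comm_mul_right hcen,
      commutatorElement_eq_one_iff_commute.2 hxx, commutatorElement_eq_one_iff_commute.2 hyy,
      one_mul, mul_one] at h1
    rw [hswap x y', hw]
    exact inv_eq_of_mul_eq_one_right h1
  have hy'x'v : ⁅y', x'⁆ = v' := by rw [hy', hx', ← map_commutatorElement, hyxv, hvr]
  have hrrx : r (r x) = (x * x')⁻¹ := by
    rw [hx']; exact eq_inv_of_mul_eq_one_right (hr.orbit_prod x)
  have hrv' : r v' = v * v' := by
    rw [hv', map_pow, hx', hrrx, hx', inv_pow, (hr.commute_r x).mul_pow, ← hx', ← hv, ← hv']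
    exact inv_eq_of_mul_eq_one_right (by rw [← pow_two]; exact hV2 _ (V.mul_mem hvV hv'V))
  have hv'sq : v' * v' = 1 := by rw [← pow_two]; exact hV2 v' hv'V
  have hwsq : w * w = 1 := by rw [← pow_two]; exact hV2 w hwV
  have hrw : r w = w * v' := by
    conv_lhs => rw [hw, map_commutatorElement, ← hy', hx', hrrx]
    rw [comm_inv_right hcen, comm_mul_right hcen, hy'x, hy'x'v]
    refine inv_eq_of_mul_eq_one_right ?_
    rw [← pow_two]; exact hV2 _ (V.mul_mem hwV hv'V)
  have hwval : w = v * v' := by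
    rcases hfour w hwV with h | h | h | h
    · rw [h, map_one, one_mul] at hrw; exact absurd hrw.symm hv'1
    · rw [h, hvr] at hrw; exact absurd (by simpa using hrw) hv1
    · rw [h, hrv', hv'sq] at hrw
      exact absurd (by rw [← mul_one v', ← hrw, ← mul_assoc]; rw [show v' * v = v * v' from hcV hv'V v, mul_assoc, hv'sq, mul_one]) hvv1.symm
    · exact h
  have hmain : ∀ (e : Bool) (Y Y' : T), Commute Y Y' → ⁅Y, x⁆ = v → ⁅Y, x'⁆ = w → ⁅Y', x⁆ = w →
      ⁅Y', x'⁆ = v' → Y * Y = (if e then v' else 1) → Y' = r Y → Rel e x x' Y Y' := by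
    intro e Y Y' hc h1 h2 h3 h4 hs hY'
    have hflip : ∀ {a b c : T}, ⁅a, b⁆ = c → a * b = c * b * a := fun {a b c} h => by
      rw [← h, commutatorElement_def]; group
    have hx2 : x ^ 2 = v := hv.symm
    have hx2' : x' ^ 2 = v' := hv'.symm
    have hx3 : x ^ 3 = v * x := by rw [pow_succ, hx2]
    have hx3' : x' ^ 3 = v' * x' := by rw [pow_succ, hx2']
    refine ⟨hxx.eq, hc.eq, hx4 x, hx4 x', ?_, ?_, ?_, ?_, ?_, ?_⟩
    · rw [hflip h1, hx3]
    · rw [hflip h2, hx2, hx3', hwval, mul_assoc v]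
    · rw [hflip h3, hx2', hx3, hwval, mul_assoc v x, ← hcV hv'V x, ← mul_assoc v]
    · rw [hflip h4, hx3']
    · rw [hs, hx2']
    · rw [hY', ← map_mul, hs, hx2, hx2']
      cases e <;> simp [hrv']
  have hysqV : y * y ∈ V := by rw [← pow_two]; exact hVsq y
  obtain ⟨z, hzL, hzsq⟩ : ∃ z, (z = 1 ∨ z = x') ∧ (y * z * (y * z) = 1 ∨ y * z * (y * z) = v') := by
    have hY : y * x' * (y * x') = v * (y * y) := by
      have h1 : x' * y = w * (y * x') := by
        rw [hw, commutatorElement_def,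
          show y * x' * y⁻¹ * x'⁻¹ * (y * x') = y * x' * y⁻¹ * x'⁻¹ * y * x' by group]
        have h2 : y * x' * y⁻¹ * x'⁻¹ = w := by rw [hw, commutatorElement_def]
        have h3 : y * x' = w * x' * y := by rw [← h2]; group
        rw [h2, mul_assoc, h3, ← mul_assoc, ← mul_assoc, hwsq, one_mul]
      calc y * x' * (y * x') = y * (x' * y) * x' := by group
        _ = (y * w) * y * (x' * x') := by rw [h1]; group
        _ = w * (y * y) * v' := by rw [← hcV hwV y, ← pow_two x', ← hv']; group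
        _ = v * (y * y) := by
          rw [mul_assoc, ← hcV hv'V, ← mul_assoc, hwval, mul_assoc v, hv'sq, mul_one]
    rcases hfour _ hysqV with h | h | h | h
    · exact ⟨1, Or.inl rfl, Or.inl (by rw [mul_one]; exact h)⟩
    · exact ⟨x', Or.inr rfl, Or.inl (by rw [hY, h, hvsq])⟩
    · exact ⟨1, Or.inl rfl, Or.inr (by rw [mul_one]; exact h)⟩
    · exact ⟨x', Or.inr rfl, Or.inr (by rw [hY, h, ← mul_assoc, hvsq, one_mul])⟩
  have hzc : Commute z x ∧ Commute z x' ∧ Commute (r z) x ∧ Commute (r z) x' ∧ z ∈ L ∧ r z ∈ L := by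
    rcases hzL with h | h <;> rw [h]
    · simp [L]
    · have e : r x' = (x * x')⁻¹ := by rw [hx'] at hrrx ⊢; exact hrrx
      rw [e]
      exact ⟨hxx.symm, Commute.refl _, ((Commute.refl x).mul_left hxx.symm).inv_left,
        (hxx.mul_left (Commute.refl x')).inv_left, hx'L, L.inv_mem (L.mul_mem hxL hx'L)⟩
  obtain ⟨hz1, hz2, hz3, hz4, hzm, hzm'⟩ := hzc
  have hkill : ∀ {a b c : T}, Commute b c → ⁅a * b, c⁆ = ⁅a, c⁆ := fun {a b c} h => by
    rw [comm_mul_left hcen, commutatorElement_eq_one_iff_commute.2 h, mul_one]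
  have hgenY : Subgroup.closure {x, x', y * z, r (y * z)} = ⊤ := by
    let M := Subgroup.closure ({x, x', y * z, r (y * z)} : Set T)
    show M = ⊤
    rw [eq_top_iff, ← hLtop', Subgroup.closure_le]
    have m1 : x ∈ M := Subgroup.subset_closure (by simp)
    have m2 : x' ∈ M := Subgroup.subset_closure (by simp)
    have m3 : y * z ∈ M := Subgroup.subset_closure (by simp)
    have m4 : r (y * z) ∈ M := Subgroup.subset_closure (by simp)
    have mz : z ∈ M ∧ r z ∈ M := by
      rcases hzL with h | h <;> rw [h]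
      · simp
      · exact ⟨m2, by rw [show r x' = (x * x')⁻¹ by rw [hx'] at hrrx ⊢; exact hrrx]; exact M.inv_mem (M.mul_mem m1 m2)⟩
    rintro g (rfl | rfl | rfl | rfl)
    · exact m1
    · exact m2
    · simpa using M.mul_mem m3 (M.inv_mem mz.1)
    · have := M.mul_mem m4 (M.inv_mem mz.2)
      rwa [map_mul, mul_inv_cancel_right, ← hy'] at this
  have hY1 : ⁅y * z, x⁆ = v := (hkill hz1).trans hyxv
  have hY2 : ⁅y * z, x'⁆ = w := (hkill hz2).trans hw.symm
  have hY3 : ⁅r (y * z), x⁆ = w := by rw [map_mul, ← hy']; exact (hkill hz3).trans hy'x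
  have hY4 : ⁅r (y * z), x'⁆ = v' := by rw [map_mul, ← hy']; exact (hkill hz4).trans hy'x'v
  rcases hzsq with h | h
  · exact ⟨false, x, x', y * z, r (y * z),
      hmain false _ _ (hr.commute_r _) hY1 hY2 hY3 hY4 (by simpa using h) rfl, hgenY, hcard⟩
  · exact ⟨true, x, x', y * z, r (y * z),
      hmain true _ _ (hr.commute_r _) hY1 hY2 hY3 hY4 (by simpa using h) rfl, hgenY, hcard⟩

end Cfsg.Agent.FoursCenter
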