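import Cfsg.Agent.Lib.LocalEven.FoursRel
import Cfsg.Agent.Lib.InvChar.SU3Coords
import Cfsg.Agent.Lib.Enum.F4
import Cfsg.Agent.S0243
import Cfsg.Agent.S1248
import Cfsg.Prelude.Def_Transfer

/-!
# Sylow 2-subgroups of `PSL(3,4)` and `PSU(3,4)` in normal form
-/

set_option autoImplicit false
set_option linter.unusedSectionVars false

namespace Cfsg.Agent.FoursCenter

open Cfsg.Agent Matrix

/-- Unitriangular matrices over the field with four elements. -/
def uni (a b c : Enum.F4) : Matrix.SpecialLinearGroup (Fin 3) Enum.F4 :=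
  ⟨!![1, a, c; 0, 1, b; 0, 0, 1], by simp [Matrix.det_fin_three]⟩

/-- A primitive cube root of unity. -/
def lam : Enum.F4 := ⟨2⟩

/-- The first generator. -/
def lx : Matrix.SpecialLinearGroup (Fin 3) Enum.F4 := uni 1 1 0
/-- The second generator. -/
def lx' : Matrix.SpecialLinearGroup (Fin 3) Enum.F4 := uni lam lam 0
/-- The third generator. -/
def ly : Matrix.SpecialLinearGroup (Fin 3) Enum.F4 := uni 1 0 0
/-- The fourth generator. -/
def ly' : Matrix.SpecialLinearGroup (Fin 3) Enum.F4 := uni lam 0 0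

theorem rel_linear : Rel false lx lx' ly ly' := by
  constructor <;> (try simp only [Bool.false_eq_true, if_false]) <;> decide +kernel

/-- Recovering the exponents from the entries. -/
def dec (a b c : Enum.F4) : Ix :=
  let α : ℕ := a.val
  let β : ℕ := b.val
  let pa := β % 2
  let pb := β / 2
  let g := Nat.xor (c.val : ℕ) (2 * pa * pb)
  let hb := g / 2
  let ha := (g % 2 + hb) % 2
  let e := Nat.xor α β
  ((pa + 2 * ha : ℕ), (pb + 2 * hb : ℕ), e % 2 == 1, e / 2 == 1)

theorem dec_N : ∀ n : Ix, ((N lx lx' ly ly' n).1 0 0 = 1) ∧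
    dec ((N lx lx' ly ly' n).1 0 1) ((N lx lx' ly ly' n).1 1 2) ((N lx lx' ly ly' n).1 0 2) = n := by
  decide +kernel

theorem map_N {G H : Type*} [Group G] [Group H] (π : G →* H) (x x' y y' : G) (n : Ix) :
    π (N x x' y y' n) = N (π x) (π x') (π y) (π y') n := by
  simp only [N, P, map_mul, map_pow]
  cases n.2.2.1 <;> cases n.2.2.2 <;> simp

theorem Rel.map {G H : Type*} [Group G] [Group H] (π : G →* H) {e : Bool} {x x' y y' : G}
    (h : Rel e x x' y y') : Rel e (π x) (π x') (π y) (π y') where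
  xx := by rw [← map_mul, h.xx, map_mul]
  yy := by rw [← map_mul, h.yy, map_mul]
  x4 := by rw [← map_pow, h.x4, map_one]
  x4' := by rw [← map_pow, h.x4', map_one]
  yx := by rw [← map_pow, ← map_mul, h.yx, map_mul]
  yx' := by rw [← map_pow, ← map_pow, ← map_mul, h.yx', map_mul, map_mul]
  y'x := by rw [← map_pow, ← map_pow, ← map_mul, h.y'x, map_mul, map_mul]
  y'x' := by rw [← map_pow, ← map_mul, h.y'x', map_mul]
  sq := by rw [← map_mul, h.sq]; cases e <;> simp
  sq' := by rw [← map_mul, h.sq']; cases e <;> simp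

theorem equiv_sylow {T H : Type*} [Group T] [Group H] [Finite H] [Fact (Nat.Prime 2)]
    (hT : Nat.card T = 64) (hH : (Nat.card H).factorization 2 = 6) (f : T →* H)
    (hf : Function.Injective f) (P : Sylow 2 H) : Nonempty (T ≃* ↥(P : Subgroup H)) := by
  have hc : Nat.card f.range = 2 ^ (Nat.card H).factorization 2 := by
    rw [hH, ← Nat.card_congr (MonoidHom.ofInjective hf).toEquiv, hT]
    norm_num
  exact ⟨(MonoidHom.ofInjective hf).trans (Sylow.equiv (Sylow.ofCard _ hc) P)⟩

theorem linear_model {T : Type*} [Group T] {x x' y y' : T} (h : Rel false x x' y y')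
    (hgen : Subgroup.closure {x, x', y, y'} = ⊤) (hcard : Nat.card T = 64)
    (P : Sylow 2 (Matrix.ProjectiveSpecialLinearGroup (Fin 3) Enum.F4)) :
    Nonempty (T ≃* ↥(P : Subgroup (Matrix.ProjectiveSpecialLinearGroup (Fin 3) Enum.F4))) := by
  haveI : Fact (Nat.Prime 2) := ⟨Nat.prime_two⟩
  let π : Matrix.SpecialLinearGroup (Fin 3) Enum.F4 →*
      Matrix.ProjectiveSpecialLinearGroup (Fin 3) Enum.F4 := QuotientGroup.mk' _
  have hinj : Function.Injective (N (π lx) (π lx') (π ly) (π ly')) := by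
    intro n m hnm
    rw [← map_N, ← map_N] at hnm
    have hmem : (N lx lx' ly ly' n)⁻¹ * N lx lx' ly ly' m ∈
        Subgroup.center (Matrix.SpecialLinearGroup (Fin 3) Enum.F4) := QuotientGroup.eq.1 hnm
    obtain ⟨r, -, hr⟩ := Matrix.SpecialLinearGroup.mem_center_iff.1 hmem
    have hm : (N lx lx' ly ly' m).1 = r • (N lx lx' ly ly' n).1 := by
      have h1 : N lx lx' ly ly' m =
          N lx lx' ly ly' n * ((N lx lx' ly ly' n)⁻¹ * N lx lx' ly ly' m) := by group
      have h2 := congrArg Subtype.val h1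
      rw [Matrix.SpecialLinearGroup.coe_mul, ← hr] at h2
      rw [h2, Matrix.scalar_apply, ← Matrix.smul_one_eq_diagonal]
      simp
    have hr1 : r = 1 := by
      have := congrFun (congrFun hm 0) 0
      rw [Matrix.smul_apply, (dec_N n).1, (dec_N m).1, smul_eq_mul, mul_one] at this
      exact this.symm
    rw [hr1, one_smul] at hm
    rw [← (dec_N n).2, ← (dec_N m).2, hm]
  obtain ⟨f, hf⟩ := h.exists_injective_hom (rel_linear.map π) hgen (h.bijective hgen hcard) hinj
  refine equiv_sylow hcard ?_ f hf P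
  have h3 := S0243.result (F := Enum.F4) Enum.F4.card_eq 3 (by norm_num)
  rw [show Nat.gcd 3 (4 - 1) = 3 from rfl, Fin.prod_univ_three] at h3
  norm_num at h3
  simp only [← Nat.card_eq_fintype_card] at h3
  have hc : Nat.card (Matrix.ProjectiveSpecialLinearGroup (Fin 3) Enum.F4) = 2 ^ 6 * 315 := by omega
  rw [hc, Nat.factorization_mul (by norm_num) (by norm_num), Finsupp.add_apply,
    Nat.Prime.factorization_pow Nat.prime_two, Finsupp.single_eq_same,
    Nat.factorization_eq_zero_of_not_dvd (by norm_num)]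

theorem unitary_model {T : Type*} [Group T] {x x' y y' : T} (h : Rel true x x' y y')
    (hgen : Subgroup.closure {x, x', y, y'} = ⊤) (hcard : Nat.card T = 64)
    {F : Type*} [Field F] [Fintype F] (hF : Fintype.card F = 16) (S : Sylow 2 (Cfsg.PSU 3 F 4)) :
    Nonempty (T ≃* ↥(S : Subgroup (Cfsg.PSU 3 F 4))) := by
  classical
  haveI : Fact (Nat.Prime 2) := ⟨Nat.prime_two⟩
  have hq2 : Fintype.card F = 4 ^ 2 := by rw [hF]; norm_num
  haveI : AutPSU.QField F 4 := AutPSU.QField.of_card hq2
  haveI : CharP F 2 := charP_of_card_eq_prime_pow (f := 4) (by rw [hF]; norm_num)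
  set π := QuotientGroup.mk' (Subgroup.center (Cfsg.SU 3 F 4)) with hπ
  have hπs : Function.Surjective π := QuotientGroup.mk'_surjective _
  have hZ : Subgroup.center (Cfsg.SU 3 F 4) = ⊥ := Subgroup.eq_bot_of_card_eq _ (by
    rw [UnitaryOrder.card_center_SU hq2 3 (by norm_num)]; norm_num)
  have hπi : Function.Injective π := by
    rw [← MonoidHom.ker_eq_bot_iff, hπ, QuotientGroup.ker_mk', hZ]
  obtain ⟨P⟩ : Nonempty (Sylow 2 (Cfsg.SU 3 F 4)) := inferInstance
  let e' : ↥(S : Subgroup (Cfsg.PSU 3 F 4)) ≃* ↥(P : Subgroup (Cfsg.SU 3 F 4)) :=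
    (Sylow.equiv S (P.mapSurjective hπs)).trans
      ((MulEquiv.subgroupCongr (Sylow.coe_mapSurjective hπs P)).trans
        ((P : Subgroup (Cfsg.SU 3 F 4)).equivMapOfInjective π hπi).symm)
  obtain ⟨C⟩ := InvChar.hermCoords_of_equiv (F := F) (q := 4) (m := 2) rfl P inferInstance e'
  -- the constants
  obtain ⟨b, hb⟩ := AutPSU.exists_trace (F := F) (q := 4) (c := (1 : F)) (map_one _)
  have h2 : (2 : F) = 0 := CharTwo.two_eq_zero
  have hσb : AutPSU.qb 4 b = b + 1 := by linear_combination hb - b * h2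
  have hb4 : b ^ 4 = b + 1 := by rw [← AutPSU.qb_apply (q := 4), hσb]
  obtain ⟨M, hM⟩ : ∃ M : F, M = b * b + b := ⟨_, rfl⟩
  have hM0 : M ≠ 0 := fun h0 => by
    have : b * (b + 1) = 0 := by linear_combination h0 - hM
    rcases mul_eq_zero.1 this with h | h
    · rw [h] at hb4; norm_num at hb4
    · have hb1 : b = 1 := by linear_combination h - h2
      rw [hb1, one_pow] at hb4
      exact one_ne_zero (α := F) (by linear_combination -hb4)
  have hM4 : M ^ 4 = M := by
    rw [hM]; linear_combination (b ^ 4 + b + 1 + 1) * hb4 + (2 * b ^ 7 + 3 * b ^ 6 + 2 * b ^ 5 + b + 1) * h2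
  have hM1 : M ≠ 1 := fun h1 => by
    have : b * b = b + 1 := by linear_combination h1 - hM - b * h2
    have h' : b ^ 4 = b := by linear_combination (b * b + b + 1 + 1) * this + (b + 1) * h2
    exact one_ne_zero (α := F) (by linear_combination h' - hb4)
  obtain ⟨l, hl⟩ : ∃ l : F, l = M * M := ⟨_, rfl⟩
  have hMpoly : M * M + M + 1 = 0 := by
    have h3 : M * (M * M * M - 1) = 0 := by linear_combination hM4
    have h3' : M * M * M - 1 = 0 := (mul_eq_zero.1 h3).resolve_left hM0
    have h4 : (M - 1) * (M * M + M + 1) = 0 := by linear_combination h3'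
    exact (mul_eq_zero.1 h4).resolve_left (sub_ne_zero.2 hM1)
  have hll : l * l = M := by rw [hl]; linear_combination hM4
  have hpoly : l * l + l + 1 = 0 := by rw [hll, hl]; linear_combination hMpoly
  have hσl : AutPSU.qb 4 l = l := by
    rw [AutPSU.qb_apply, hl]; linear_combination (M ^ 4 + M) * hM4
  have hl0 : l ≠ 0 := fun h0 => by rw [h0] at hpoly; norm_num at hpoly
  have hl1 : l + 1 ≠ 0 := fun h0 => by
    exact one_ne_zero (α := F) (by linear_combination hpoly - l * h0)
  obtain ⟨X, hX⟩ := C.exists_lift 1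
  obtain ⟨X', hX'⟩ := C.exists_lift l
  obtain ⟨Y, hY⟩ := C.exists_lift b
  obtain ⟨Y', hY'⟩ := C.exists_lift (l * b)
  have hbb : b * b = l * l + b := by rw [hll, hM]; linear_combination (-b) * h2
  have hrel : Rel true X X' Y Y' := by
    constructor <;> refine C.inj _ _ ?_ ?_ <;>
      simp only [if_true, pow_succ, pow_zero, one_mul, C.A_mul, C.T_mul, C.A_one, C.T_one, hX, hX',
        hY, hY', map_add, map_mul, map_one, map_zero, hσb, hσl] <;>
      grind
  have hsep : ∀ k s : F, AutPSU.qb 4 k = k → AutPSU.qb 4 s = s → s + k * b = 0 → k = 0 ∧ s = 0 := by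
    intro k s hk hs h0
    by_cases hk0 : k = 0
    · exact ⟨hk0, by rw [hk0] at h0; linear_combination h0⟩
    exfalso
    have h1 := congrArg (AutPSU.qb (F := F) 4) h0
    rw [map_add, map_mul, hk, hs, hσb, map_zero] at h1
    exact hk0 (by linear_combination h1 - h0)
  have hinj : Function.Injective (N X X' Y Y') := by
    refine hrel.injective C.A C.A_mul (fun w => CharTwo.add_self_eq_zero w) (fun p q c d h0 => ?_) ?_ ?_ ?_
    · rw [hX, hX', hY, hY'] at h0
      obtain ⟨hk, hs⟩ := hsep ((if c then (1 : F) else 0) + if d then l else 0)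
        ((if p then (1 : F) else 0) + if q then l else 0)
        (by cases c <;> cases d <;> simp [hσl]) (by cases p <;> cases q <;> simp [hσl])
        (by refine Eq.trans ?_ h0; cases c <;> cases d <;> simp <;> ring)
      revert hk hs
      cases p <;> cases q <;> cases c <;> cases d <;>
        simp [hl0, hl1, add_comm (1 : F) l]
    all_goals intro h0; have h1 := congrArg C.T h0
    all_goals simp only [pow_two, C.T_mul, C.A_mul, C.T_one, hX, hX', map_one, hσl] at h1
    all_goals grind
  obtain ⟨f, hf⟩ := h.exists_injective_hom hrel hgen (h.bijective hgen hcard) hinj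
  have hS64 : Nat.card (S : Subgroup (Cfsg.PSU 3 F 4)) = 64 := (S1248.result hF S).1
  exact ⟨MulEquiv.ofBijective f
    ((Nat.bijective_iff_injective_and_card _).2 ⟨hf, by rw [hcard, hS64]⟩)⟩

end Cfsg.Agent.FoursCenter
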