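import Mathlib

/-!
# Two presentations of groups of order 64

A normal form for the groups generated by `x, x', y, y'` subject to the relations of the Sylow
2-subgroups of `PSL(3,4)` (`e = false`) and `PSU(3,4)` (`e = true`).
-/

set_option autoImplicit false

namespace Cfsg.Agent.FoursCenter

variable {G H : Type*} [Group G] [Group H]

/-- The relations. -/
structure Rel (e : Bool) (x x' y y' : G) : Prop where
  xx : x * x' = x' * x
  yy : y * y' = y' * y
  x4 : x ^ 4 = 1
  x4' : x' ^ 4 = 1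
  yx : y * x = x ^ 3 * y
  yx' : y * x' = x ^ 2 * x' ^ 3 * y
  y'x : y' * x = x ^ 3 * x' ^ 2 * y'
  y'x' : y' * x' = x' ^ 3 * y'
  sq : y * y = if e then x' ^ 2 else 1
  sq' : y' * y' = if e then x ^ 2 * x' ^ 2 else 1

/-- Exponent vectors. -/
abbrev Ix : Type := ZMod 4 × ZMod 4 × Bool × Bool

/-- The abelian part of the normal form. -/
def P (x x' : G) (a b : ZMod 4) : G := x ^ a.val * x' ^ b.val

/-- The normal form. -/
def N (x x' y y' : G) (n : Ix) : G :=
  P x x' n.1 n.2.1 * (if n.2.2.1 then y else 1) * (if n.2.2.2 then y' else 1)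

/-- Left multiplication by `x`. -/
def Lx (n : Ix) : Ix := (n.1 + 1, n.2.1, n.2.2.1, n.2.2.2)

/-- Left multiplication by `x'`. -/
def Lx' (n : Ix) : Ix := (n.1, n.2.1 + 1, n.2.2.1, n.2.2.2)

/-- Left multiplication by `y`. -/
def Ly (e : Bool) (n : Ix) : Ix :=
  (3 * n.1 + 2 * n.2.1, 3 * n.2.1 + (if e && n.2.2.1 then 2 else 0), !n.2.2.1, n.2.2.2)

/-- Left multiplication by `y'`. -/
def Ly' (e : Bool) (n : Ix) : Ix :=
  (3 * n.1 + (if e && n.2.2.2 then 2 else 0),
    2 * n.1 + 3 * n.2.1 + (if e && n.2.2.2 then 2 else 0), n.2.2.1, !n.2.2.2)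

namespace Rel

variable {e : Bool} {x x' y y' : G}

theorem pow_val {z : G} (h4 : z ^ 4 = 1) (k : ℕ) : z ^ k = z ^ ((k : ZMod 4)).val := by
  rw [ZMod.val_natCast]; exact pow_eq_pow_mod k h4

theorem P_nat (h : Rel e x x' y y') (i j : ℕ) : x ^ i * x' ^ j = P x x' (i : ZMod 4) (j : ZMod 4) := by
  rw [P, ← pow_val h.x4, ← pow_val h.x4']

theorem P_add (h : Rel e x x' y y') (a b c d : ZMod 4) :
    P x x' a b * P x x' c d = P x x' (a + c) (b + d) := by
  have hc : x' ^ b.val * x ^ c.val = x ^ c.val * x' ^ b.val :=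
    ((Commute.symm h.xx).pow_pow b.val c.val).eq
  have h1 := h.P_nat (a.val + c.val) (b.val + d.val)
  rw [Nat.cast_add, Nat.cast_add, ZMod.natCast_zmod_val, ZMod.natCast_zmod_val,
    ZMod.natCast_zmod_val, ZMod.natCast_zmod_val] at h1
  rw [← h1, P, P, pow_add, pow_add]
  simp only [mul_assoc]
  rw [← mul_assoc (x' ^ b.val), hc, mul_assoc]

theorem P_zero : P x x' 0 0 = (1 : G) := by simp [P]

theorem P_one_left : P x x' 1 0 = x := by
  rw [P, show (1 : ZMod 4).val = 1 from rfl]; simp

theorem P_one_right : P x x' 0 1 = x' := by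
  rw [P, show (1 : ZMod 4).val = 1 from rfl]; simp

theorem x_P (h : Rel e x x' y y') (a b : ZMod 4) : x * P x x' a b = P x x' (a + 1) b := by
  nth_rw 1 [← P_one_left (x := x) (x' := x')]
  rw [h.P_add, zero_add, add_comm]

theorem x'_P (h : Rel e x x' y y') (a b : ZMod 4) : x' * P x x' a b = P x x' a (b + 1) := by
  nth_rw 1 [← P_one_right (x := x) (x' := x')]
  rw [h.P_add, zero_add, add_comm b]

theorem y_P (h : Rel e x x' y y') (a b : ZMod 4) :
    y * P x x' a b = P x x' (3 * a + 2 * b) (3 * b) * y := by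
  have h1 : SemiconjBy y x (x ^ 3) := h.yx
  have h2 : SemiconjBy y x' (x ^ 2 * x' ^ 3) := h.yx'
  have h3 : SemiconjBy y (P x x' a b) ((x ^ 3) ^ a.val * (x ^ 2 * x' ^ 3) ^ b.val) :=
    (h1.pow_right _).mul_right (h2.pow_right _)
  refine h3.eq.trans (congrArg (· * y) ?_)
  rw [((Commute.pow_pow h.xx 2 3)).mul_pow, ← pow_mul, ← pow_mul, ← pow_mul, ← mul_assoc,
    ← pow_add, h.P_nat]
  simp

theorem y'_P (h : Rel e x x' y y') (a b : ZMod 4) :
    y' * P x x' a b = P x x' (3 * a) (2 * a + 3 * b) * y' := by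
  have h1 : SemiconjBy y' x (x ^ 3 * x' ^ 2) := h.y'x
  have h2 : SemiconjBy y' x' (x' ^ 3) := h.y'x'
  have h3 : SemiconjBy y' (P x x' a b) ((x ^ 3 * x' ^ 2) ^ a.val * (x' ^ 3) ^ b.val) :=
    (h1.pow_right _).mul_right (h2.pow_right _)
  refine h3.eq.trans (congrArg (· * y') ?_)
  rw [((Commute.pow_pow h.xx 3 2)).mul_pow, ← pow_mul, ← pow_mul, ← pow_mul, mul_assoc,
    ← pow_add, h.P_nat]
  simp

theorem sq_P (h : Rel e x x' y y') : y * y = P x x' 0 (if e then 2 else 0) := by
  rw [h.sq]; cases e <;> simp [P]; rfl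

theorem sq'_P (h : Rel e x x' y y') :
    y' * y' = P x x' (if e then 2 else 0) (if e then 2 else 0) := by
  rw [h.sq']; cases e <;> simp [P]; rfl

theorem N_Lx (h : Rel e x x' y y') (n : Ix) : N x x' y y' (Lx n) = x * N x x' y y' n := by
  simp only [N, Lx, ← mul_assoc, h.x_P]; rfl

theorem N_Lx' (h : Rel e x x' y y') (n : Ix) : N x x' y y' (Lx' n) = x' * N x x' y y' n := by
  simp only [N, Lx', ← mul_assoc, h.x'_P]; rfl

theorem N_Ly (h : Rel e x x' y y') (n : Ix) : N x x' y y' (Ly e n) = y * N x x' y y' n := by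
  obtain ⟨a, b, c, d⟩ := n
  simp only [N, Ly]
  rw [← mul_assoc, ← mul_assoc, h.y_P]
  congr 1
  cases c
  · simp
  · simp only [if_true, Bool.not_true, Bool.false_eq_true, if_false, mul_one, Bool.and_true]
    rw [mul_assoc, h.sq_P, h.P_add, add_zero]

theorem N_Ly' (h : Rel e x x' y y') (n : Ix) : N x x' y y' (Ly' e n) = y' * N x x' y y' n := by
  obtain ⟨a, b, c, d⟩ := n
  have hz : ∀ k l : ZMod 4, k = 0 ∨ k = 2 → l = 0 ∨ l = 2 →
      y * P x x' k l = P x x' k l * y := by
    intro k l hk hl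
    rw [h.y_P]
    have : 3 * k + 2 * l = k ∧ 3 * l = l := by
      rcases hk with rfl | rfl <;> rcases hl with rfl | rfl <;> decide
    rw [this.1, this.2]
  simp only [N, Ly']
  rw [← mul_assoc, ← mul_assoc, h.y'_P]
  cases d
  · cases c
    · simp
    · simp [mul_assoc, h.yy]
  · simp only [if_true, Bool.not_true, Bool.false_eq_true, if_false, mul_one, Bool.and_true]
    cases c
    · simp only [Bool.false_eq_true, if_false, mul_one]
      rw [mul_assoc, h.sq'_P, h.P_add]
    · simp only [if_true]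
      rw [mul_assoc (P x x' (3 * a) (2 * a + 3 * b)), ← h.yy,
        ← mul_assoc (P x x' (3 * a) (2 * a + 3 * b)), mul_assoc _ y' y', h.sq'_P, mul_assoc _ y,
        hz _ _ (by cases e <;> simp) (by cases e <;> simp), ← mul_assoc, h.P_add]

theorem N_zero : N x x' y y' (0, 0, false, false) = (1 : G) := by simp [N, P_zero]

theorem y4 (h : Rel e x x' y y') : y ^ 4 = 1 := by
  rw [show (4 : ℕ) = 2 * 2 from rfl, pow_mul, pow_two, pow_two, h.sq_P, h.P_add]
  cases e <;> simp [P, show (2 : ZMod 4) + 2 = 0 from by decide]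

theorem y'4 (h : Rel e x x' y y') : y' ^ 4 = 1 := by
  rw [show (4 : ℕ) = 2 * 2 from rfl, pow_mul, pow_two, pow_two, h.sq'_P, h.P_add]
  cases e <;> simp [P, show (2 : ZMod 4) + 2 = 0 from by decide]

/-- Every element of a generated group has a normal form. -/
theorem surjective (h : Rel e x x' y y') (hgen : Subgroup.closure {x, x', y, y'} = ⊤) :
    Function.Surjective (N x x' y y') := by
  let S : Submonoid G :=
    { carrier := {g | ∀ n, ∃ m, N x x' y y' m = g * N x x' y y' n}
      one_mem' := fun n => ⟨n, (one_mul _).symm⟩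
      mul_mem' := fun {g g'} hg hg' n => by
        obtain ⟨m, hm⟩ := hg' n
        obtain ⟨k, hk⟩ := hg m
        exact ⟨k, by rw [hk, hm, mul_assoc]⟩ }
  have hS : ({x, x', y, y'} : Set G) ⊆ S := by
    rintro g (rfl | rfl | rfl | rfl) n
    exacts [⟨_, h.N_Lx n⟩, ⟨_, h.N_Lx' n⟩, ⟨_, h.N_Ly n⟩, ⟨_, h.N_Ly' n⟩]
  intro g
  have hg : g ∈ S := by
    refine Subgroup.closure_induction_left (p := fun z _ => z ∈ S) S.one_mem
      (fun a ha z _ hz => S.mul_mem (hS ha) hz) (fun a ha z _ hz => S.mul_mem ?_ hz)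
      (hgen ▸ Subgroup.mem_top g)
    have h4 : a ^ 4 = 1 := by
      rcases ha with rfl | rfl | rfl | rfl
      exacts [h.x4, h.x4', h.y4, h.y'4]
    have : a⁻¹ = a ^ 3 := inv_eq_of_mul_eq_one_right (by rw [← pow_succ', h4])
    rw [this]
    exact pow_mem (hS ha) 3
  obtain ⟨m, hm⟩ := hg (0, 0, false, false)
  exact ⟨m, by rw [hm, N_zero, mul_one]⟩

theorem bijective (h : Rel e x x' y y') (hgen : Subgroup.closure {x, x', y, y'} = ⊤)
    (hcard : Nat.card G = 64) : Function.Bijective (N x x' y y') :=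
  (Nat.bijective_iff_surjective_and_card _).2 ⟨h.surjective hgen, by
    rw [hcard, Nat.card_eq_fintype_card]; rfl⟩

/-- Injectivity of the normal form from an elementary abelian image. -/
theorem injective (h : Rel e x x' y y') {W : Type*} [AddCommGroup W] (ψ : G → W)
    (hψ : ∀ g g', ψ (g * g') = ψ g + ψ g') (hW : ∀ w : W, w + w = 0)
    (hind : ∀ p q c d : Bool, ((if p then ψ x else 0) + (if q then ψ x' else 0) +
      (if c then ψ y else 0) + (if d then ψ y' else 0)) = 0 →
      p = false ∧ q = false ∧ c = false ∧ d = false)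
    (hv : x ^ 2 ≠ 1) (hv' : x' ^ 2 ≠ 1) (hvv : x ^ 2 * x' ^ 2 ≠ 1) :
    Function.Injective (N x x' y y') := by
  have h0 : ψ 1 = 0 := by
    have := hψ 1 1
    rw [mul_one] at this
    exact left_eq_add.1 this
  have hpow : ∀ (g : G) (k : ℕ), ψ (g ^ k) = if k % 2 = 1 then ψ g else 0 := by
    intro g k
    induction k with
    | zero => simp [h0]
    | succ k ih =>
      rw [pow_succ, hψ, ih]
      rcases Nat.mod_two_eq_zero_or_one k with hk | hk <;> simp [hk, Nat.add_mod, hW]
  let p : ZMod 4 → Bool := fun a => a.val % 2 = 1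
  have hN : ∀ n : Ix, ψ (N x x' y y' n) = (if p n.1 then ψ x else 0) +
      (if p n.2.1 then ψ x' else 0) + (if n.2.2.1 then ψ y else 0) +
      (if n.2.2.2 then ψ y' else 0) := by
    rintro ⟨a, b, c, d⟩
    simp only [N, P, hψ, hpow, p, decide_eq_true_eq]
    cases c <;> cases d <;> simp [h0]
  rintro ⟨a, b, c, d⟩ ⟨a', b', c', d'⟩ heq
  have hpar : p a = p a' ∧ p b = p b' ∧ c = c' ∧ d = d' := by
    have key := hind (xor (p a) (p a')) (xor (p b) (p b')) (xor c c') (xor d d') ?_
    · revert key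
      cases p a <;> cases p a' <;> cases p b <;> cases p b' <;> cases c <;> cases c' <;>
        cases d <;> cases d' <;> simp
    have hx : ∀ (s t : Bool) (w : W), (if xor s t then w else 0) =
        (if s then w else 0) + (if t then w else 0) := by
      intro s t w; cases s <;> cases t <;> simp [hW]
    rw [hx, hx, hx, hx]
    have e1 := congrArg ψ heq
    rw [hN, hN] at e1
    calc _ = ((if p a then ψ x else 0) + (if p b then ψ x' else 0) + (if c then ψ y else 0) +
        (if d then ψ y' else 0)) + ((if p a' then ψ x else 0) + (if p b' then ψ x' else 0) +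
        (if c' then ψ y else 0) + (if d' then ψ y' else 0)) := by abel
      _ = 0 := by rw [e1]; exact hW _
  obtain ⟨ha, hb, rfl, rfl⟩ := hpar
  have hP : P x x' a b = P x x' a' b' := mul_right_cancel (mul_right_cancel (by exact heq))
  have hd : P x x' (a - a') (b - b') = 1 := by
    have := h.P_add (a - a') (b - b') a' b'
    rw [sub_add_cancel, sub_add_cancel, hP] at this
    exact mul_eq_right.1 this
  have hev : ∀ u u' : ZMod 4, (decide (u.val % 2 = 1)) = (decide (u'.val % 2 = 1)) →
      u - u' = 0 ∨ u - u' = 2 := by decide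
  rcases hev a a' ha with ha2 | ha2 <;> rcases hev b b' hb with hb2 | hb2 <;>
    rw [ha2, hb2] at hd
  · rw [sub_eq_zero] at ha2 hb2; rw [ha2, hb2]
  · exact absurd (by simpa [P, show (2 : ZMod 4).val = 2 from rfl] using hd) hv'
  · exact absurd (by simpa [P, show (2 : ZMod 4).val = 2 from rfl] using hd) hv
  · exact absurd (by simpa [P, show (2 : ZMod 4).val = 2 from rfl] using hd) hvv

/-- A group with bijective normal form embeds into every group with injective normal form. -/
theorem exists_injective_hom {X X' Y Y' : H} (hG : Rel e x x' y y') (hH : Rel e X X' Y Y')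
    (hgen : Subgroup.closure {x, x', y, y'} = ⊤)
    (hbij : Function.Bijective (N x x' y y')) (hinj : Function.Injective (N X X' Y Y')) :
    ∃ f : G →* H, Function.Injective f := by
  let E := Equiv.ofBijective _ hbij
  let f : G → H := fun g => N X X' Y Y' (E.symm g)
  have hf1 : f 1 = 1 := by
    show N X X' Y Y' (E.symm 1) = 1
    rw [show E.symm 1 = (0, 0, false, false) from E.symm_apply_eq.2 N_zero.symm, N_zero]
  have key : ∀ (g : G) (g₂ : H) (L : Ix → Ix),
      (∀ n, N x x' y y' (L n) = g * N x x' y y' n) →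
      (∀ n, N X X' Y Y' (L n) = g₂ * N X X' Y Y' n) → ∀ z, f (g * z) = f g * f z := by
    intro g g₂ L hL hL' z
    have h1 : ∀ z, f (g * z) = g₂ * f z := by
      intro z
      have : E.symm (g * z) = L (E.symm z) := E.symm_apply_eq.2 (by
        show g * z = N x x' y y' (L (E.symm z))
        rw [hL]; exact congrArg (g * ·) (E.apply_symm_apply z).symm)
      show N X X' Y Y' (E.symm (g * z)) = _
      rw [this, hL']
    have h2 : f g = g₂ := by
      have := h1 1; rwa [mul_one, hf1, mul_one] at this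
    rw [h1, h2]
  have hmul : ∀ g z : G, f (g * z) = f g * f z := by
    intro g
    refine Subgroup.closure_induction (p := fun g _ => ∀ z, f (g * z) = f g * f z) ?_ ?_ ?_ ?_
      (hgen ▸ Subgroup.mem_top g)
    · rintro a (rfl | rfl | rfl | rfl)
      · exact key _ _ Lx hG.N_Lx hH.N_Lx
      · exact key _ _ Lx' hG.N_Lx' hH.N_Lx'
      · exact key _ _ (Ly e) hG.N_Ly hH.N_Ly
      · exact key _ _ (Ly' e) hG.N_Ly' hH.N_Ly'
    · intro z; rw [one_mul, hf1, one_mul]
    · intro a b _ _ ha hb z; rw [mul_assoc, ha, hb, ha b, mul_assoc]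
    · intro a _ ha z
      have h1 := ha (a⁻¹ * z)
      have h2 := ha a⁻¹
      rw [mul_inv_cancel_left] at h1
      rw [mul_inv_cancel, hf1] at h2
      rw [h1, eq_inv_of_mul_eq_one_right h2.symm, inv_mul_cancel_left]
  exact ⟨MonoidHom.mk' f hmul, fun g z hgz => E.symm.injective (hinj hgz)⟩

end Rel

end Cfsg.Agent.FoursCenter
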