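import Cfsg.Agent.Lib.LocalEven.FoursRel
import Cfsg.Agent.Lib.FGB.EngelTwo

/-!
# A 2-group with commuting automorphisms of orders 2 and 3 whose fixed points are small
-/

set_option autoImplicit false

namespace Cfsg.Agent.FoursCenter

open scoped commutatorElement

/-- Fixed points of an endomorphism on a quotient are no more numerous than on the group. -/
theorem card_fixed_le {T Q : Type*} [Group T] [Finite T] [Group Q] (π : T →* Q)
    (hπ : Function.Surjective π) (φ : T →* T) (ψ : Q → Q) (h : ∀ g, π (φ g) = ψ (π g)) :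
    Nat.card {q : Q // ψ q = q} ≤ Nat.card {g : T // φ g = g} := by
  classical
  haveI : Finite Q := Finite.of_surjective π hπ
  let s : Q → T := Function.surjInv hπ
  have hs : ∀ q, π (s q) = q := Function.surjInv_eq hπ
  have hP : Nat.card ({q : Q // ψ q = q} × π.ker) ≤ Nat.card {g : T // g⁻¹ * φ g ∈ π.ker} := by
    refine Nat.card_le_card_of_injective (fun p => ⟨s p.1.1 * p.2.1, ?_⟩) ?_
    · rw [MonoidHom.mem_ker, map_mul, map_inv, h, map_mul, hs, MonoidHom.mem_ker.1 p.2.2, mul_one,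
        p.1.2, inv_mul_cancel]
    · rintro ⟨q, n⟩ ⟨q', n'⟩ heq
      have h1 : s q.1 * n.1 = s q'.1 * n'.1 := congrArg Subtype.val heq
      have h2 : q.1 = q'.1 := by
        have := congrArg π h1
        rwa [map_mul, map_mul, hs, hs, MonoidHom.mem_ker.1 n.2, MonoidHom.mem_ker.1 n'.2, mul_one,
          mul_one] at this
      rw [h2] at h1
      exact Prod.ext (Subtype.ext h2) (Subtype.ext (mul_left_cancel h1))
  let Φ : {g : T // g⁻¹ * φ g ∈ π.ker} → π.ker := fun g => ⟨g.1⁻¹ * φ g.1, g.2⟩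
  let sec : π.ker → T := fun n => if hn : ∃ g : T, g⁻¹ * φ g = n then hn.choose else 1
  have hP' : Nat.card {g : T // g⁻¹ * φ g ∈ π.ker} ≤
      Nat.card ({g : T // φ g = g} × π.ker) := by
    refine Nat.card_le_card_of_injective (fun g => (⟨g.1 * (sec (Φ g))⁻¹, ?_⟩, Φ g)) ?_
    · have hex : ∃ g' : T, g'⁻¹ * φ g' = Φ g := ⟨g.1, rfl⟩
      have h1 : (sec (Φ g))⁻¹ * φ (sec (Φ g)) = g.1⁻¹ * φ g.1 := by
        show (dite _ _ _)⁻¹ * φ (dite _ _ _) = _
        rw [dif_pos hex]
        exact hex.choose_spec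
      have h2 : φ (sec (Φ g)) = sec (Φ g) * (g.1⁻¹ * φ g.1) := by rw [← h1]; group
      rw [map_mul, map_inv, h2]
      group
    · intro g g' heq
      obtain ⟨h1, h2⟩ := Prod.mk.injEq _ _ _ _ ▸ heq
      have h1' : g.1 * (sec (Φ g))⁻¹ = g'.1 * (sec (Φ g'))⁻¹ := congrArg Subtype.val h1
      rw [h2] at h1'
      exact Subtype.ext (mul_right_cancel h1')
  have := hP.trans hP'
  rw [Nat.card_prod, Nat.card_prod] at this
  exact Nat.le_of_mul_le_mul_right this Nat.card_pos

/-- A fixed-point-free automorphism of order 3. -/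
structure FpfThree {T : Type*} [Group T] (r : T →* T) : Prop where
  cube : ∀ x, r (r (r x)) = x
  fpf : ∀ x, r x = x → x = 1

namespace FpfThree

variable {T : Type*} [Group T] [Finite T] {r : T →* T}

theorem surj_twist (hr : FpfThree r) (z : T) : ∃ w, w⁻¹ * r w = z := by
  have hinj : Function.Injective (fun w : T => w⁻¹ * r w) := by
    intro a b h
    have h' : r (b * a⁻¹) = b * a⁻¹ := by
      have h0 : a⁻¹ * r a = b⁻¹ * r b := h
      have h2 : r b = b * (a⁻¹ * r a) := by rw [h0]; group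
      rw [map_mul, map_inv, h2]; group
    exact (mul_inv_eq_one.1 (hr.fpf _ h')).symm
  exact Finite.injective_iff_surjective.1 hinj z

theorem orbit_prod (hr : FpfThree r) (z : T) : z * r z * r (r z) = 1 := by
  obtain ⟨w, rfl⟩ := hr.surj_twist z
  rw [map_mul, map_inv, map_mul, map_inv, hr.cube]
  group

theorem commute_r (hr : FpfThree r) (z : T) : Commute z (r z) := by
  have h1 := hr.orbit_prod z
  have h2 := hr.orbit_prod z⁻¹
  rw [map_inv, map_inv] at h2
  have e1 : r (r z) = (z * r z)⁻¹ := eq_inv_of_mul_eq_one_right h1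
  rw [e1, inv_inv] at h2
  show z * r z = r z * z
  calc z * r z = r z * z * (z⁻¹ * (r z)⁻¹ * (z * r z)) := by group
    _ = r z * z := by rw [h2, mul_one]

theorem commute_conj_r (hr : FpfThree r) (z c : T) : Commute z (c * r z * c⁻¹) := by
  obtain ⟨h, rfl⟩ := hr.surj_twist c
  have h1 := (hr.commute_r (h * z * h⁻¹)).map (MulAut.conj h⁻¹)
  simp only [MulAut.conj_apply, inv_inv] at h1
  simp only [map_mul, map_inv] at h1
  convert h1 using 1 <;> group

theorem commute_conj (hr : FpfThree r) (x g : T) : Commute x (g * x * g⁻¹) := by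
  have h1 := hr.commute_conj_r x g
  have h2 : Commute x (g * r (r x) * g⁻¹) := by
    have h := hr.commute_conj_r (r (r x)) g⁻¹
    rw [hr.cube, inv_inv] at h
    have h' := h.map (MulAut.conj g)
    simp only [MulAut.conj_apply] at h'
    refine Commute.symm ?_
    convert h' using 1; group
  have e1 : x⁻¹ = r x * r (r x) := inv_eq_of_mul_eq_one_right (by rw [← mul_assoc]; exact hr.orbit_prod x)
  have h3 : Commute x (g * x⁻¹ * g⁻¹) := by
    rw [e1, show g * (r x * r (r x)) * g⁻¹ = (g * r x * g⁻¹) * (g * r (r x) * g⁻¹) by group]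
    exact h1.mul_right h2
  have h4 := h3.inv_right
  convert h4 using 1; group

theorem commutator_central (hr : FpfThree r) (hT : IsPGroup 2 T) (a b c : T) :
    Commute ⁅a, b⁆ c := by
  refine FGB.EngelTwo.commute_commutator hr.commute_conj (fun x hx => ?_) c a b
  obtain ⟨k, hk⟩ := hT x
  have h1 : orderOf x ∣ Nat.gcd 3 (2 ^ k) :=
    Nat.dvd_gcd (orderOf_dvd_of_pow_eq_one hx) (orderOf_dvd_of_pow_eq_one hk)
  rw [(Nat.Coprime.pow_right k (by decide : Nat.Coprime 3 2))] at h1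
  exact orderOf_eq_one_iff.1 (Nat.dvd_one.1 h1)

end FpfThree

theorem card_subgroup_four {Q : Type*} [Group Q] [Finite Q] (K : Subgroup Q) (a b : Q) (ha : a ∈ K)
    (hb : b ∈ K) (ha1 : a ≠ 1) (hb1 : b ≠ 1) (hab : a ≠ b) : 3 ≤ Nat.card K := by
  classical
  haveI := Fintype.ofFinite K
  rw [Nat.card_eq_fintype_card]
  refine le_trans ?_ (Finset.card_le_univ ({1, ⟨a, ha⟩, ⟨b, hb⟩} : Finset K))
  rw [Finset.card_insert_of_notMem, Finset.card_insert_of_notMem, Finset.card_singleton]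
  · simpa [Subtype.ext_iff] using hab
  · simp [Subtype.ext_iff, Ne.symm ha1, Ne.symm hb1]

theorem abelian_case {A : Type*} [CommGroup A] [Finite A] (hA : IsPGroup 2 A) (τ r : A →* A)
    (hτ : ∀ x, τ (τ x) = x) (hr : FpfThree r) (hτr : ∀ x, τ (r x) = r (τ x))
    (hfix : Nat.card {a : A // τ a = a} ≤ 4) :
    (Nat.card A = 16 ∧ ∀ a : A, a ^ 2 = 1) ∨
      ∃ x : A, ∀ H : Subgroup A, x ∈ H → r x ∈ H → H = ⊤ := by
  classical
  haveI : Fact (Nat.Prime 2) := ⟨Nat.prime_two⟩
  let E : Subgroup A := (powMonoidHom 2 : A →* A).ker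
  have hEmem : ∀ a, a ∈ E ↔ a ^ 2 = 1 := fun a => Iff.rfl
  let Φ : E →* A :=
    MonoidHom.mk' (fun e => (e : A)⁻¹ * τ e) fun e f => by
      rw [Subgroup.coe_mul, mul_inv, map_mul]; exact mul_mul_mul_comm _ _ _ _
  have hΦfix : ∀ e, τ (Φ e) = Φ e := fun e => by
    have he : (e : A) * e = 1 := by rw [← pow_two]; exact (hEmem _).1 e.2
    show τ ((e : A)⁻¹ * τ e) = (e : A)⁻¹ * τ e
    rw [map_mul, map_inv, hτ, inv_eq_of_mul_eq_one_right he, mul_comm]
    congr 1
    exact inv_eq_of_mul_eq_one_right (by rw [← map_mul, he, map_one])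
  have hrE : ∀ {e : A}, e ∈ E → r e ∈ E := fun {e} he => by
    rw [hEmem] at he ⊢; rw [← map_pow, he, map_one]
  -- a subgroup stable under `r` does not have order 2
  have h2 : ∀ K : Subgroup A, (∀ k ∈ K, r k ∈ K) → Nat.card K ≠ 2 := by
    intro K hK hc
    obtain ⟨⟨k, hk⟩, hk1'⟩ :=
      K.ne_bot_iff_exists_ne_one.1 ((Subgroup.one_lt_card_iff_ne_bot K).1 (by omega))
    have hk1 : k ≠ 1 := fun h => hk1' (Subtype.ext h)
    have : 3 ≤ Nat.card K := card_subgroup_four K k (r k) hk (hK k hk) hk1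
      (fun h => hk1 (by have := congrArg r (congrArg r h); rwa [hr.cube, map_one, map_one] at this))
      (fun h => hk1 (hr.fpf k h.symm))
    omega
  have hle : ∀ K : Subgroup A, (∀ k ∈ K, τ k = k) → Nat.card K ≤ 4 := fun K hK =>
    (Nat.card_le_card_of_injective (fun k : K => (⟨k.1, hK k.1 k.2⟩ : {a : A // τ a = a}))
      fun a b h => Subtype.ext (Subtype.mk.inj h)).trans hfix
  have hpow : ∀ K : Subgroup A, Nat.card K ≤ 4 → (∀ k ∈ K, r k ∈ K) →
      Nat.card K = 1 ∨ Nat.card K = 4 := by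
    intro K hK hKr
    obtain ⟨m, hm⟩ := IsPGroup.iff_card.1 (hA.to_subgroup K)
    have h := h2 K hKr
    rcases m with _ | _ | _ | m
    · exact Or.inl (by simpa using hm)
    · exact absurd (by simpa using hm) h
    · exact Or.inr (by simpa using hm)
    · have : 8 ≤ 2 ^ (m + 3) := by
        calc 8 = 2 ^ 3 := by norm_num
          _ ≤ _ := Nat.pow_le_pow_right (by norm_num) (by omega)
      rw [show m + 1 + 1 + 1 = m + 3 by ring] at hm
      omega
  let K₁ : Subgroup A := Φ.range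
  let K₀ : Subgroup A := Φ.ker.map E.subtype
  have hK₀mem : ∀ a, a ∈ K₀ → a ∈ E ∧ τ a = a := by
    rintro a ⟨e, he, rfl⟩
    exact ⟨e.2, (eq_of_inv_mul_eq_one (MonoidHom.mem_ker.1 he)).symm⟩
  have hK₁ : Nat.card K₁ = 1 ∨ Nat.card K₁ = 4 := by
    refine hpow _ (hle _ ?_) ?_
    · rintro k ⟨e, rfl⟩; exact hΦfix e
    · rintro k ⟨e, rfl⟩
      exact ⟨⟨r e, hrE e.2⟩, by show (r e)⁻¹ * τ (r e) = r ((e : A)⁻¹ * τ e); rw [map_mul, map_inv, hτr]⟩
  have hK₀ : Nat.card K₀ = 1 ∨ Nat.card K₀ = 4 := by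
    refine hpow _ (hle _ fun k hk => (hK₀mem k hk).2) ?_
    rintro k ⟨e, he, rfl⟩
    refine ⟨⟨r e, hrE e.2⟩, ?_, rfl⟩
    rw [SetLike.mem_coe, MonoidHom.mem_ker] at he ⊢
    show (r e)⁻¹ * τ (r e) = 1
    rw [hτr, ← map_inv, ← map_mul, show (e : A)⁻¹ * τ e = 1 from he, map_one]
  have hEcard : Nat.card E = Nat.card K₁ * Nat.card K₀ := by
    rw [Nat.card_congr (Φ.ker.equivMapOfInjective E.subtype E.subtype_injective).toEquiv.symm,
      show Nat.card K₁ = Φ.ker.index from (Subgroup.index_ker Φ).symm, mul_comm,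
      Subgroup.card_mul_index]
  by_cases h16 : Nat.card E = 16
  · left
    obtain ⟨hK₁4, hK₀4⟩ : Nat.card K₁ = 4 ∧ Nat.card K₀ = 4 := by
      rcases hK₁ with h | h <;> rcases hK₀ with h' | h' <;> rw [h, h', h16] at hEcard <;> omega
    have hFmem : ∀ a, τ a = a → a ∈ K₀ ∧ a ∈ K₁ := by
      intro a ha
      have key : ∀ K : Subgroup A, Nat.card K = 4 → (∀ k ∈ K, τ k = k) → a ∈ K := by
        intro K hK hKfix
        let ι : K → {a : A // τ a = a} := fun k => ⟨k.1, hKfix k.1 k.2⟩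
        have hι : Function.Injective ι := fun p q h => Subtype.ext (Subtype.mk.inj h)
        have hbij : Function.Bijective ι :=
          (Nat.bijective_iff_injective_and_card _).2 ⟨hι,
            le_antisymm (Nat.card_le_card_of_injective ι hι) (hfix.trans hK.ge)⟩
        obtain ⟨k, hk⟩ := hbij.2 ⟨a, ha⟩
        rw [← show k.1 = a from congrArg Subtype.val hk]
        exact k.2
      exact ⟨key _ hK₀4 fun k hk => (hK₀mem k hk).2, key _ hK₁4 (by rintro k ⟨e, rfl⟩; exact hΦfix e)⟩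
    have hall : ∀ a : A, a ^ 4 = 1 → a ^ 2 = 1 := by
      intro a ha4
      by_contra ha2
      obtain ⟨b, hb2, hbfix⟩ : ∃ b : A, b ^ 2 ≠ 1 ∧ τ (b ^ 2) = b ^ 2 ∧ b ^ 4 = 1 := by
        by_cases hw : τ (a ^ 2) = a ^ 2
        · exact ⟨a, ha2, hw, ha4⟩
        have hwE : a ^ 2 ∈ E := by rw [hEmem, ← pow_mul]; exact ha4
        refine ⟨a⁻¹ * τ a, ?_, ?_, ?_⟩
        · rw [mul_pow, inv_pow, ← map_pow]
          exact fun h => hw (eq_of_inv_mul_eq_one h).symm
        · rw [mul_pow, inv_pow, ← map_pow]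
          exact hΦfix ⟨a ^ 2, hwE⟩
        · rw [mul_pow, inv_pow, ← map_pow, ha4, map_one, inv_one, mul_one]
      have hφb : b⁻¹ * τ b ∈ E := by
        rw [hEmem, mul_pow, inv_pow, ← map_pow, hbfix.1, inv_mul_cancel]
      have hφfix : τ (b⁻¹ * τ b) = b⁻¹ * τ b := by
        have h1 : (b⁻¹ * τ b) * (b⁻¹ * τ b) = 1 := by rw [← pow_two]; exact (hEmem _).1 hφb
        calc τ (b⁻¹ * τ b) = (b⁻¹ * τ b)⁻¹ := by rw [map_mul, map_inv, hτ, mul_inv_rev, inv_inv]
          _ = _ := inv_eq_of_mul_eq_one_right h1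
      obtain ⟨e, he⟩ := (hFmem _ hφfix).2
      have hfx : τ (b * (e : A)⁻¹) = b * (e : A)⁻¹ := by
        have he' : (e : A)⁻¹ * τ e = b⁻¹ * τ b := he
        have : τ e = (e : A) * (b⁻¹ * τ b) := by rw [← he', mul_inv_cancel_left]
        rw [map_mul, map_inv, this]
        simp [mul_comm, mul_left_comm]
      have hbe : b * (e : A)⁻¹ ∈ E := (hK₀mem _ (hFmem _ hfx).1).1
      have hbE : b ∈ E := by simpa using E.mul_mem hbe e.2
      exact hb2 ((hEmem b).1 hbE)
    have hsq : ∀ a : A, a ^ 2 = 1 := by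
      intro a
      obtain ⟨k, hk⟩ := hA a
      induction k generalizing a with
      | zero => rw [pow_zero, pow_one] at hk; rw [hk, one_pow]
      | succ k ih =>
        refine hall a ?_
        rw [show (4 : ℕ) = 2 * 2 from rfl, pow_mul]
        exact ih (a ^ 2) (by rw [← pow_mul, ← pow_succ']; exact hk)
    refine ⟨?_, hsq⟩
    have : E = ⊤ := eq_top_iff.2 fun a _ => (hEmem a).2 (hsq a)
    rw [← h16, this, Subgroup.card_top]
  · right
    have hE4 : Nat.card E ≤ 4 := by
      rcases hK₁ with h | h <;> rcases hK₀ with h' | h' <;> rw [h, h'] at hEcard <;> omega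
    let R : Subgroup A := (powMonoidHom 2 : A →* A).range
    have hRcard : Nat.card (A ⧸ R) = Nat.card E := by
      have h1 := Subgroup.card_mul_index R
      have h2 := Subgroup.card_mul_index E
      rw [show E.index = Nat.card R from Subgroup.index_ker _, mul_comm] at h2
      rw [← h2] at h1
      exact Nat.eq_of_mul_eq_mul_left Nat.card_pos h1
    have hR : ∀ a, a ∈ R ↔ ∃ b, b ^ 2 = a := fun a => Iff.rfl
    by_cases htriv : R = ⊤
    · refine ⟨1, fun H _ _ => eq_top_iff.2 fun a _ => ?_⟩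
      have : ∀ (k : ℕ) (a : A), ∃ b, b ^ 2 ^ k = a := by
        intro k
        induction k with
        | zero => exact fun a => ⟨a, by simp⟩
        | succ k ih =>
          intro a
          obtain ⟨b, rfl⟩ := ih a
          obtain ⟨c, rfl⟩ := (hR b).1 (htriv ▸ Subgroup.mem_top b)
          exact ⟨c, by rw [← pow_mul, ← pow_succ']⟩
      obtain ⟨n, hn⟩ := IsPGroup.iff_card.1 hA
      obtain ⟨b, rfl⟩ := this n a
      rw [← hn, pow_card_eq_one']
      exact H.one_mem
    obtain ⟨x, -, hx⟩ := SetLike.exists_of_lt (lt_top_iff_ne_top.2 htriv)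
    refine ⟨x, fun H hxH hrxH => ?_⟩
    have hrxR : r x ∉ R := by
      rintro ⟨b, hb⟩
      exact hx ⟨r (r b), by
        show r (r b) ^ 2 = x
        rw [← map_pow, ← map_pow, show b ^ 2 = r x from hb, hr.cube]⟩
    have hne : (x : A ⧸ R) ≠ (r x : A ⧸ R) := by
      intro h
      obtain ⟨c, hc⟩ := (hR _).1 (QuotientGroup.eq.1 h)
      have h1 : r x = x * c ^ 2 := by rw [hc, mul_inv_cancel_left]
      have h2 := hr.orbit_prod x
      rw [h1, map_mul, map_pow, h1] at h2
      apply hx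
      refine (hR x).2 ⟨(x * c * c * (r c))⁻¹, ?_⟩
      rw [inv_pow]
      refine inv_eq_of_mul_eq_one_right ?_
      rw [← h2]
      simp only [pow_two]; ac_rfl
    have himg : H.map (QuotientGroup.mk' R) = ⊤ := by
      apply Subgroup.eq_top_of_card_eq
      have h3 := card_subgroup_four (H.map (QuotientGroup.mk' R)) (x : A ⧸ R) (r x : A ⧸ R)
        ⟨x, hxH, rfl⟩ ⟨r x, hrxH, rfl⟩ (fun h => hx ((QuotientGroup.eq_one_iff x).1 h))
        (fun h => hrxR ((QuotientGroup.eq_one_iff _).1 h)) hne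
      have hle' : Nat.card (H.map (QuotientGroup.mk' R)) ≤ Nat.card (A ⧸ R) :=
        Subgroup.card_le_card_group _
      have hdvd := Subgroup.card_subgroup_dvd_card (H.map (QuotientGroup.mk' R))
      rw [hRcard] at hle' hdvd ⊢
      obtain ⟨j, hj⟩ := hdvd
      rcases j with _ | _ | j
      · simp at hj; have := Nat.card_pos (α := E); omega
      · omega
      · nlinarith
    have hdec : ∀ a : A, ∃ h ∈ H, ∃ b : A, a = h * b ^ 2 := by
      intro a
      have : (a : A ⧸ R) ∈ H.map (QuotientGroup.mk' R) := himg ▸ Subgroup.mem_top _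
      obtain ⟨h, hh, hha⟩ := this
      obtain ⟨b, hb⟩ := (hR _).1 (QuotientGroup.eq.1 hha)
      exact ⟨h, hh, b, by rw [hb, mul_inv_cancel_left]⟩
    refine eq_top_iff.2 fun a _ => ?_
    have hit : ∀ k : ℕ, ∀ a : A, ∃ h ∈ H, ∃ b : A, a = h * b ^ 2 ^ k := by
      intro k
      induction k with
      | zero => exact fun a => ⟨1, H.one_mem, a, by simp⟩
      | succ k ih =>
        intro a
        obtain ⟨h, hh, b, rfl⟩ := ih a
        obtain ⟨h', hh', c, rfl⟩ := hdec b
        exact ⟨h * h' ^ 2 ^ k, H.mul_mem hh (pow_mem hh' _), c, by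
          rw [mul_pow, ← pow_mul, ← pow_succ', mul_assoc]⟩
    obtain ⟨n, hn⟩ := IsPGroup.iff_card.1 hA
    obtain ⟨h, hh, b, rfl⟩ := hit n a
    rw [← hn, pow_card_eq_one', mul_one]
    exact hh

theorem homocyclic {A : Type*} [Group A] [Finite A] (hA : IsPGroup 2 A) (hnt : Nontrivial A)
    (hcomm : ∀ a b : A, a * b = b * a) (r : A →* A) (hr : FpfThree r) (x : A)
    (hgen : ∀ H : Subgroup A, x ∈ H → r x ∈ H → H = ⊤) :
    ∃ n : ℕ, 1 ≤ n ∧ Nonempty (A ≃* Multiplicative (ZMod (2 ^ n)) × Multiplicative (ZMod (2 ^ n))) := by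
  obtain ⟨n, hn⟩ : ∃ n, orderOf x = 2 ^ n := by
    obtain ⟨k, hk⟩ := hA x
    obtain ⟨n, -, hn⟩ := (Nat.dvd_prime_pow Nat.prime_two).1 (orderOf_dvd_of_pow_eq_one hk)
    exact ⟨n, hn⟩
  have hpos : 1 ≤ n := by
    by_contra h
    have hx : x = 1 := orderOf_eq_one_iff.1 (by rw [hn, show n = 0 by omega, pow_zero])
    have := hgen ⊥ (by simp [hx]) (by simp [hx])
    exact absurd this bot_ne_top
  refine ⟨n, hpos, ?_⟩
  have hx : x ^ 2 ^ n = 1 := hn ▸ pow_orderOf_eq_one x
  have hrx : r x ^ 2 ^ n = 1 := by rw [← map_pow, hx, map_one]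
  haveI : NeZero (2 ^ n) := ⟨by positivity⟩
  let f : Multiplicative (ZMod (2 ^ n)) × Multiplicative (ZMod (2 ^ n)) →* A :=
    MonoidHom.mk' (fun p => x ^ p.1.toAdd.val * r x ^ p.2.toAdd.val) fun p q => by
      have e : ∀ (z : A), z ^ 2 ^ n = 1 → ∀ a b : ZMod (2 ^ n), z ^ (a + b).val = z ^ a.val * z ^ b.val := by
        intro z hz a b
        rw [ZMod.val_add, ← pow_eq_pow_mod _ hz, pow_add]
      simp only [Prod.fst_mul, Prod.snd_mul, toAdd_mul, e x hx, e (r x) hrx]
      exact Commute.mul_mul_mul_comm ((hr.commute_r x).pow_pow _ _) _ _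
  have hsurj : Function.Surjective f := by
    refine MonoidHom.range_eq_top.1 (hgen _ ⟨(Multiplicative.ofAdd 1, 1), ?_⟩ ⟨(1, Multiplicative.ofAdd 1), ?_⟩)
    all_goals
      show x ^ _ * r x ^ _ = _
      have h1 : (1 : ZMod (2 ^ n)).val = 1 := by
        haveI : Fact (1 < 2 ^ n) := ⟨Nat.one_lt_two_pow (by omega)⟩
        exact ZMod.val_one _
      simp [h1]
  have hinj : Function.Injective f := by
    rw [← MonoidHom.ker_eq_bot_iff]
    by_contra hne
    haveI : Fact (Nat.Prime 2) := ⟨Nat.prime_two⟩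
    have hP : IsPGroup 2 (Multiplicative (ZMod (2 ^ n)) × Multiplicative (ZMod (2 ^ n))) :=
      IsPGroup.of_card (n := n + n) (by rw [Nat.card_prod, Nat.card_congr Multiplicative.toAdd, Nat.card_zmod, pow_add])
    obtain ⟨k, hk⟩ := (IsPGroup.iff_card.1 (hP.to_subgroup f.ker))
    obtain ⟨⟨p, hp⟩, hord⟩ := exists_prime_orderOf_dvd_card' (G := f.ker) 2 (by
      rw [hk]
      refine dvd_pow_self 2 fun h0 => hne (Subgroup.eq_bot_of_card_eq _ (by rw [hk, h0, pow_zero])))
    rw [Subgroup.orderOf_mk] at hord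
    have hp2 : p ^ 2 = 1 := by have h := pow_orderOf_eq_one p; rwa [hord] at h
    have key : ∀ a : Multiplicative (ZMod (2 ^ n)), a ^ 2 = 1 → x ^ a.toAdd.val = 1 ∨
        (x ^ a.toAdd.val = x ^ 2 ^ (n - 1)) := by
      intro a ha
      have h0 : ((2 * a.toAdd.val : ℕ) : ZMod (2 ^ n)) = 0 := by
        have := congrArg Multiplicative.toAdd ha
        rw [toAdd_pow, toAdd_one, nsmul_eq_mul] at this
        rw [Nat.cast_mul, ZMod.natCast_zmod_val]; exact this
      rw [ZMod.natCast_eq_zero_iff] at h0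
      obtain ⟨m, hm⟩ := h0
      have h5 : 2 ^ n = 2 * 2 ^ (n - 1) := by rw [← pow_succ', Nat.sub_add_cancel hpos]
      have hlt := a.toAdd.val_lt
      have hm' : a.toAdd.val = 2 ^ (n - 1) * m := by
        have h6 : 2 * a.toAdd.val = 2 * (2 ^ (n - 1) * m) := by
          rw [hm, ← mul_assoc]; exact congrArg (· * m) h5
        omega
      have : m < 2 := by
        by_contra hm2
        have : 2 ^ (n - 1) * 2 ≤ 2 ^ (n - 1) * m := Nat.mul_le_mul_left _ (by omega)
        omega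
      interval_cases m
      · exact Or.inl (by rw [hm', mul_zero, pow_zero])
      · exact Or.inr (by rw [hm', mul_one])
    set X := x ^ 2 ^ (n - 1) with hXdef
    have hX1 : X ≠ 1 := fun h => by
      have h1 := orderOf_dvd_of_pow_eq_one h
      rw [hn, Nat.pow_dvd_pow_iff_le_right (by norm_num)] at h1
      omega
    have hX2 : X * X = 1 := by
      rw [← pow_two, hXdef, ← pow_mul, ← pow_succ, Nat.sub_add_cancel hpos, hx]
    have hf1 : x ^ p.1.toAdd.val * r (x ^ p.2.toAdd.val) = 1 := by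
      rw [map_pow]; exact MonoidHom.mem_ker.1 hp
    have hp1 : p.1 ^ 2 = 1 := congrArg Prod.fst hp2
    have hp2' : p.2 ^ 2 = 1 := congrArg Prod.snd hp2
    have hval : ∀ a : Multiplicative (ZMod (2 ^ n)), x ^ a.toAdd.val = 1 → a = 1 := by
      intro a ha
      have := Nat.eq_zero_of_dvd_of_lt (orderOf_dvd_of_pow_eq_one ha) (hn.symm ▸ a.toAdd.val_lt)
      exact Multiplicative.toAdd.injective ((ZMod.val_eq_zero _).1 this)
    rcases key p.1 hp1 with h1 | h1 <;> rcases key p.2 hp2' with h2 | h2 <;> rw [h1, h2] at hf1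
    · rw [show p = 1 from Prod.ext (hval _ h1) (hval _ h2), orderOf_one] at hord; omega
    · rw [one_mul] at hf1
      exact hX1 (by have := congrArg r (congrArg r hf1); rwa [hr.cube, map_one, map_one] at this)
    · rw [map_one, mul_one] at hf1; exact hX1 hf1
    · exact hX1 (hr.fpf X ((inv_eq_of_mul_eq_one_right hf1).symm.trans (inv_eq_of_mul_eq_one_right hX2)))
  exact ⟨(MulEquiv.ofBijective f ⟨hinj, hsurj⟩).symm⟩

end Cfsg.Agent.FoursCenter
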